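import Cfsg.Agent.Spor.J4.Tab

set_option autoImplicit false
set_option Elab.async false
set_option maxRecDepth 100000

namespace Cfsg.Agent.Spor.J4C.B

open Cfsg.Agent.Comp.BN Cfsg.Agent.Comp.DCE

set_option linter.unusedVariables false

abbrev M : Type := gen N1.π
noncomputable abbrev x0 : ℕ → M := selfT N1.π
noncomputable abbrev ρ : M →* Equiv.Perm ℕ := (gen N1.π).subtype

theorem mod (hB : Bound PH 501397585920) : Nat.card M = 501397585920 ∧ PModel PH x0 N1.π bs ρ :=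
  model_self hB N1.sat N1.ch (by decide)

theorem tm (hB : Bound PH 501397585920) : TM T ρ bs ∧ ∀ e < 4, lets T ρ e = x0 e :=
  tm_of_model (mod hB).2 (memo_spec N1.spec (K := 11) (by decide)) N1.inv (by decide +kernel) orig
    (goods (lt_of_invS (mod hB).2.map (mod hB).2.top N1.spec N1.out N1.inv)) (by decide)

theorem exists_hom (hB : Bound PH 501397585920) {K : Type} [Group K] {y : ℕ → K} (hy : Sat PH y) :
    ∃ f : M →* K, ∀ k, f (x0 k) = y k :=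
  ((mod hB).2.link hB (mod hB).1).hom K y hy

theorem exists_mod2 (hB : Bound PH 501397585920) : ∃ ρ2 : M →* Equiv.Perm ℕ, PModel PH x0 N2.π [4, 96, 192, 1808, 2, 112, 0] ρ2 :=
  (((mod hB).2.link hB (mod hB).1).model hB N2.sat N2.ch (by decide)).2

noncomputable def ρ2 (hB : Bound PH 501397585920) : M →* Equiv.Perm ℕ := (exists_mod2 hB).choose

theorem mod2 (hB : Bound PH 501397585920) : PModel PH x0 N2.π [4, 96, 192, 1808, 2, 112, 0] (ρ2 hB) := (exists_mod2 hB).choose_spec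

theorem hρ2 (hB : Bound PH 501397585920) : ∀ k, ρ2 hB (x0 k) = N2.π k := (mod2 hB).map

theorem m2 (hB : Bound PH 501397585920) : M2 (lets T ρ) x0 4 N2.act 15180 N2.π (ρ2 hB) :=
  ⟨⟨_, N2.spec⟩, fun g => lt_of_invS (hρ2 hB) (mod hB).2.top N2.spec N2.out N2.inv g 0 (by decide), hρ2 hB,
    (mod hB).2.top, (tm hB).2⟩

theorem m3 (hB : Bound PH 501397585920) : M2 (lets T ρ) (subT x0 xws) 72 a3 15180 (subT N2.π xws) (ρ2 hB) :=
  (m2 hB).virt (tm hB).1 (memo_spec (N2.spec.sub xws) (K := 14) (by decide)) (mod hB).2.sat.out (by decide +kernel) virt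

theorem rel0 (hB : Bound PH 501397585920) {G : Type} [Group G] {x : ℕ → G} (hx : Sat P x) {ι : M →* G}
    (hι : ∀ k, ι (x0 k) = subT x wsH k) :
    relG ι (x 3) (lets T ρ) [nat_lit 0, nat_lit 0] = 1 :=
  relG_of_rw (tm hB).1 hx (tm hB).2 hι [[], []] [(0, 51, 0)] (by decide +kernel)

theorem rel1 (hB : Bound PH 501397585920) {G : Type} [Group G] {x : ℕ → G} (hx : Sat P x) {ι : M →* G}
    (hι : ∀ k, ι (x0 k) = subT x wsH k) :
    relG ι (x 3) (lets T ρ) [nat_lit 0x103101001, nat_lit 0x103101001, nat_lit 0x103101001] = 1 :=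
  relG_of_rw (tm hB).1 hx (tm hB).2 hι [[1, 0, 2, 0, 1, 0, 2, 0, 1, 0, 1, 0, 2, 0, 1, 0, 2], [1, 0, 2, 0, 1, 0, 2, 0, 1, 0, 1, 0, 2, 0, 1, 0, 2], [1, 0, 2, 0, 1, 0, 2, 0, 1, 0, 1, 0, 2, 0, 1, 0, 2]] [(8, 25, 0)] (by decide +kernel)

theorem rel2 (hB : Bound PH 501397585920) {G : Type} [Group G] {x : ℕ → G} (hx : Sat P x) {ι : M →* G}
    (hι : ∀ k, ι (x0 k) = subT x wsH k) :
    relG ι (x 3) (lets T ρ) [nat_lit 0x207092736, nat_lit 0x1f01112d0a13, nat_lit 0x207092736, nat_lit 0x1f01112d0a13] = 1 :=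
  relG_of_rw (tm hB).1 hx (tm hB).2 hι [[2, 2, 0, 2, 0, 2, 0, 2, 0, 2, 0, 2, 0, 2, 2, 0, 2, 0, 2, 0], [0, 1, 0, 1, 0, 1, 1, 0, 1, 0, 1, 0, 1, 0, 1, 0, 1, 0, 1, 1, 1, 0, 1, 0, 1, 0, 1, 1, 0, 1, 0, 1, 0, 1, 1, 0, 1, 0, 1, 0, 1], [2, 2, 0, 2, 0, 2, 0, 2, 0, 2, 0, 2, 0, 2, 2, 0, 2, 0, 2, 0], [0, 1, 0, 1, 0, 1, 1, 0, 1, 0, 1, 0, 1, 0, 1, 0, 1, 0, 1, 1, 1, 0, 1, 0, 1, 0, 1, 1, 0, 1, 0, 1, 0, 1, 1, 0, 1, 0, 1, 0, 1]] [(20, 28, 0)] (by decide +kernel)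

theorem rel3 (hB : Bound PH 501397585920) {G : Type} [Group G] {x : ℕ → G} (hx : Sat P x) {ι : M →* G}
    (hι : ∀ k, ι (x0 k) = subT x wsH k) :
    relG ι (x 3) (lets T ρ) [nat_lit 0x1c0103251312, nat_lit 0x1c0103251312, nat_lit 0x1c0c0b1102] = 1 :=
  relG_of_rw (tm hB).1 hx (tm hB).2 hι [[1, 0, 1, 0, 1, 0, 1, 0, 2, 0, 1, 0, 1, 0, 2, 0, 2, 0, 2, 0, 2], [1, 0, 1, 0, 1, 0, 1, 0, 2, 0, 1, 0, 1, 0, 2, 0, 2, 0, 2, 0, 2], [1, 0, 1, 0, 1, 0, 1, 0, 2, 0, 3, 1, 0, 1, 0, 2, 0, 2, 0, 2, 0, 2]] [(10, 31, 0)] (by decide +kernel)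

theorem hrel (hB : Bound PH 501397585920) {G : Type} [Group G] {x : ℕ → G} (hx : Sat P x) {ι : M →* G}
    (hι : ∀ k, ι (x0 k) = subT x wsH k) :
    AllP (fun L => relG ι (x 3) (lets T ρ) L = 1) rels :=
  ⟨rel0 hB hx hι, rel1 hB hx hι, rel2 hB hx hι, rel3 hB hx hι, trivial⟩

theorem kok (hB : Bound PH 501397585920) {G : Type} [Group G] {x : ℕ → G} (hx : Sat P x) {ι : M →* G}
    (hι : ∀ k, ι (x0 k) = subT x wsH k) :
    KOK ι (x 3) (lets T ρ) 72 108 36 :=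
  KOK.ders (tm hB).1 (KOK.word (tm hB).1 hx (tm hB).2 hι (KOK.word (tm hB).1 hx (tm hB).2 hι (KOK.word (tm hB).1 hx (tm hB).2 hι (kok_zero ι (x 3) _ 72 108) 1 1 [0] [0] [(1, 21, 0)] (by decide +kernel)) 4348059951 4348059951 [1, 0, 1, 0, 2, 0, 2, 0, 1, 0, 1, 0, 1] [1, 0, 1, 0, 2, 0, 2, 0, 1, 0, 1, 0, 1] [(15, 18, 0)] (by decide +kernel)) 168563714 9032544244212753 [2, 0, 1, 0, 3, 0, 2, 0, 1] [0, 1, 0, 1, 0, 2, 0, 1, 0, 1, 0, 1, 0, 2, 0, 2, 0, 3, 0, 1, 0, 1, 0, 2, 0, 2, 0, 2, 0, 1, 0, 2, 0, 2, 2, 0, 2, 0, 2, 0, 1, 0, 1, 0, 2, 0, 2, 0, 1, 0, 1, 0, 2, 0, 2, 0, 1, 0, 1, 0, 1, 1, 0, 1, 0, 2, 0, 2, 0, 1, 0, 1, 0, 1, 0, 1, 0, 1, 0, 2, 0, 2, 0, 1, 0, 1, 0, 1, 1, 0, 1, 0, 2, 0, 2, 0, 1, 0, 1, 0, 1, 0, 2, 0, 2, 0, 2, 0, 1, 0, 1, 0, 2, 0, 2, 0, 1, 0, 1, 0, 2, 0, 2, 0, 1, 0, 1, 0, 1, 0, 1, 0, 1, 0, 2, 0, 2, 0, 1, 0, 1, 0, 1, 0, 1, 0, 1, 0, 2, 0, 2, 0, 1, 0, 1, 0, 1, 1, 0, 1, 0, 2, 0,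 2, 0, 1, 0, 1, 0, 1, 0, 1, 0, 1, 0, 2, 0, 2, 0, 1, 0, 1, 0, 1, 1, 0, 1, 0, 2, 0, 2, 0, 1, 0, 1, 0, 1, 0, 1, 0, 1, 0, 2, 0, 2, 0, 1, 0, 1, 0, 1, 0, 2, 0, 2, 0, 2, 0, 1, 0, 1, 0, 2, 0, 2] [(0, 51, 0), (0, 49, 0)] (by decide +kernel)) _ (nk' := 36) rfl kder0

/-- the nodes -/
noncomputable def nd {G : Type} [Group G] (x : ℕ → G) (ι : M →* G) : ℕ → Co ι :=
  node d (elM (lets T ρ)) (MulAction.toPerm (x 3) : Equiv.Perm (Co ι)) (Co.one ι)

theorem sem (hB : Bound PH 501397585920) {G : Type} [Group G] {x : ℕ → G} (hx : Sat P x) {ι : M →* G}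
    (hι : ∀ k, ι (x0 k) = subT x wsH k) :
    Sem d (RepL ρ bs) (elM (lets T ρ)) (MulAction.toPerm (x 3) : Equiv.Perm (Co ι)) (Co.one ι) :=
  sem1 (tm hB).1 (kok hB hx hι) (hrel hB hx hι) _ _ _ _

theorem valid (hB : Bound PH 501397585920) {G : Type} [Group G] {x : ℕ → G} (hx : Sat P x) {ι : M →* G}
    (hι : ∀ k, ι (x0 k) = subT x wsH k) :
    ∀ r < 197, Valid d (elM (lets T ρ)) (MulAction.toPerm (x 3) : Equiv.Perm (Co ι)) (nd x ι) (d.F r) :=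
  ok _ _ _ _ _ _ (sem hB hx hι)

theorem lev2 : levelC a3 14 [] 0 [[0], [1], [2], [3]] 17 15180 = true :=
  by decide +kernel

theorem hK (hB : Bound PH 501397585920) {G : Type} [Group G] {x : ℕ → G} (hx : Sat P x) {ι : M →* G}
    (hι : ∀ k, ι (x0 k) = subT x wsH k) :
    ∀ k : M, ρ2 hB k 0 = 0 → ∃ t, KP ι (x 3) k t :=
  have := (mod hB).2.fin
  fix_le_K (tm hB).1 (m3 hB) (kok hB hx hι) kfix chK lev2 ((mod hB).1.le.trans (by decide +kernel))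

theorem lab0 (hB : Bound PH 501397585920) {G : Type} [Group G] {x : ℕ → G} (hx : Sat P x) {ι : M →* G}
    (hι : ∀ k, ι (x0 k) = subT x wsH k) :
    Lab (ρ2 hB) ι (x 3) (nd x ι) 127 0 (ones 15180) :=
  Lab.close (tm hB).1 (m3 hB) (valid hB hx hι)
    (Lab.roots (m3 hB) (valid hB hx hι) (dead_of (valid hB hx hι) _ dead) (lab_zero _ _) _ roots0) close0

theorem stab0 (hB : Bound PH 501397585920) {G : Type} [Group G] {x : ℕ → G} (hx : Sat P x) {ι : M →* G}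
    (hι : ∀ k, ι (x0 k) = subT x wsH k) :
    Stab ρ (nd x ι 0) [] 501397585920 :=
  stab_top (fun m => by rw [nd, node_zero]; exact Co.fix ι m) (mod hB).1

theorem lab1 (hB : Bound PH 501397585920) {G : Type} [Group G] {x : ℕ → G} (hx : Sat P x) {ι : M →* G}
    (hι : ∀ k, ι (x0 k) = subT x wsH k) :
    Lab (ρ2 hB) ι (x 3) (nd x ι) 127 1 (ones 15180) :=
  Lab.close (tm hB).1 (m3 hB) (valid hB hx hι)
    (Lab.roots (m3 hB) (valid hB hx hι) (dead_of (valid hB hx hι) _ dead) (lab_zero _ _) _ roots1) close1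

theorem stab1 (hB : Bound PH 501397585920) {G : Type} [Group G] {x : ℕ → G} (hx : Sat P x) {ι : M →* G}
    (hι : ∀ k, ι (x0 k) = subT x wsH k) :
    Stab ρ (nd x ι 1) [] 33030144 :=
  have := (mod hB).2.fin
  stab_of_chain (tm hB).1 (valid hB hx hι) ch1

theorem lab2 (hB : Bound PH 501397585920) {G : Type} [Group G] {x : ℕ → G} (hx : Sat P x) {ι : M →* G}
    (hι : ∀ k, ι (x0 k) = subT x wsH k) :
    Lab (ρ2 hB) ι (x 3) (nd x ι) 127 2 (ones 15180) :=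
  Lab.close (tm hB).1 (m3 hB) (valid hB hx hι)
    (Lab.roots (m3 hB) (valid hB hx hι) (dead_of (valid hB hx hι) _ dead) (lab_zero _ _) _ roots2) close2

theorem stab2 (hB : Bound PH 501397585920) {G : Type} [Group G] {x : ℕ → G} (hx : Sat P x) {ι : M →* G}
    (hι : ∀ k, ι (x0 k) = subT x wsH k) :
    Stab ρ (nd x ι 2) [] 17694720 :=
  have := (mod hB).2.fin
  stab_of_chain (tm hB).1 (valid hB hx hι) ch2

theorem lab3 (hB : Bound PH 501397585920) {G : Type} [Group G] {x : ℕ → G} (hx : Sat P x) {ι : M →* G}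
    (hι : ∀ k, ι (x0 k) = subT x wsH k) :
    Lab (ρ2 hB) ι (x 3) (nd x ι) 127 3 (ones 15180) :=
  Lab.close (tm hB).1 (m3 hB) (valid hB hx hι)
    (Lab.roots (m3 hB) (valid hB hx hι) (dead_of (valid hB hx hι) _ dead) (lab_zero _ _) _ roots3) close3

theorem stab3 (hB : Bound PH 501397585920) {G : Type} [Group G] {x : ℕ → G} (hx : Sat P x) {ι : M →* G}
    (hι : ∀ k, ι (x0 k) = subT x wsH k) :
    Stab ρ (nd x ι 3) [] 147456 :=
  have := (mod hB).2.fin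
  stab_of_chain (tm hB).1 (valid hB hx hι) ch3

theorem lab4 (hB : Bound PH 501397585920) {G : Type} [Group G] {x : ℕ → G} (hx : Sat P x) {ι : M →* G}
    (hι : ∀ k, ι (x0 k) = subT x wsH k) :
    Lab (ρ2 hB) ι (x 3) (nd x ι) 127 4 (ones 15180) :=
  Lab.close (tm hB).1 (m3 hB) (valid hB hx hι)
    (Lab.roots (m3 hB) (valid hB hx hι) (dead_of (valid hB hx hι) _ dead) (lab_zero _ _) _ roots4) close4

theorem stab4 (hB : Bound PH 501397585920) {G : Type} [Group G] {x : ℕ → G} (hx : Sat P x) {ι : M →* G}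
    (hι : ∀ k, ι (x0 k) = subT x wsH k) :
    Stab ρ (nd x ι 4) [] 15360 :=
  have := (mod hB).2.fin
  stab_of_chain (tm hB).1 (valid hB hx hι) ch4

theorem lab5 (hB : Bound PH 501397585920) {G : Type} [Group G] {x : ℕ → G} (hx : Sat P x) {ι : M →* G}
    (hι : ∀ k, ι (x0 k) = subT x wsH k) :
    Lab (ρ2 hB) ι (x 3) (nd x ι) 127 5 (ones 15180) :=
  Lab.close (tm hB).1 (m3 hB) (valid hB hx hι)
    (Lab.roots (m3 hB) (valid hB hx hι) (dead_of (valid hB hx hι) _ dead) (lab_zero _ _) _ roots5) close5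

theorem stab5 (hB : Bound PH 501397585920) {G : Type} [Group G] {x : ℕ → G} (hx : Sat P x) {ι : M →* G}
    (hι : ∀ k, ι (x0 k) = subT x wsH k) :
    Stab ρ (nd x ι 5) [] 9216 :=
  have := (mod hB).2.fin
  stab_of_chain (tm hB).1 (valid hB hx hι) ch5

theorem lab6 (hB : Bound PH 501397585920) {G : Type} [Group G] {x : ℕ → G} (hx : Sat P x) {ι : M →* G}
    (hι : ∀ k, ι (x0 k) = subT x wsH k) :
    Lab (ρ2 hB) ι (x 3) (nd x ι) 127 6 (ones 15180) :=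
  Lab.close (tm hB).1 (m3 hB) (valid hB hx hι)
    (Lab.roots (m3 hB) (valid hB hx hι) (dead_of (valid hB hx hι) _ dead) (lab_zero _ _) _ roots6) close6

theorem stab6 (hB : Bound PH 501397585920) {G : Type} [Group G] {x : ℕ → G} (hx : Sat P x) {ι : M →* G}
    (hι : ∀ k, ι (x0 k) = subT x wsH k) :
    Stab ρ (nd x ι 6) [] 6072 :=
  have := (mod hB).2.fin
  stab_of_chain (tm hB).1 (valid hB hx hι) ch6

/-- the nodes representing the orbits -/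
def reps : List ℕ := [0, 1, 2, 3, 4, 5, 6]

/-- the sizes of the orbits -/
def ns : List ℕ := [1, 15180, 28336, 3400320, 32643072, 54405120, 82575360]

theorem cover (hB : Bound PH 501397585920) {G : Type} [Group G] {x : ℕ → G} (hx : Sat P x) {ι : M →* G}
    (hι : ∀ k, ι (x0 k) = subT x wsH k) (top : gen x = ⊤) :
    Cover ι.range (fun i => nd x ι (nth 1 reps i)) ns :=
  have := (mod hB).2.fin
  cover_of (m3 hB) (hK hB hx hι) (sup_eq_top hx top (mod hB).2.top hι [[0], [1], [2], [3]] [(51, 0), (51, 0), (51, 0), (51, 0)] (by decide +kernel))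
    (node_zero _ _ _ _) [(0, 1, 501397585920, []), (1, 15180, 33030144, []), (2, 28336, 17694720, []), (3, 3400320, 147456, []), (4, 32643072, 15360, []), (5, 54405120, 9216, []), (6, 82575360, 6072, [])] (by decide +kernel) rfl
    ⟨⟨lab0 hB hx hι, stab0 hB hx hι⟩, ⟨lab1 hB hx hι, stab1 hB hx hι⟩, ⟨lab2 hB hx hι, stab2 hB hx hι⟩, ⟨lab3 hB hx hι, stab3 hB hx hι⟩, ⟨lab4 hB hx hι, stab4 hB hx hι⟩, ⟨lab5 hB hx hι, stab5 hB hx hι⟩, ⟨lab6 hB hx hι, stab6 hB hx hι⟩, trivial⟩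
    ⟨⟨by decide, (mod hB).1.le.trans (by decide)⟩, ⟨by decide, (mod hB).1.le.trans (by decide)⟩, ⟨by decide, (mod hB).1.le.trans (by decide)⟩, ⟨by decide, (mod hB).1.le.trans (by decide)⟩, ⟨by decide, (mod hB).1.le.trans (by decide)⟩, ⟨by decide, (mod hB).1.le.trans (by decide)⟩, ⟨by decide, (mod hB).1.le.trans (by decide)⟩, trivial⟩

theorem bound (hB : Bound PH 501397585920) (hI : Impl P PH wsH) : Bound P 86775571046077562880 := fun _ _ x hx => by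
  obtain ⟨ι, hι⟩ := exists_hom hB (hI _ _ (sat_selfT hx))
  have := (mod hB).2.fin
  obtain ⟨h1, h2⟩ := card_range_le ι
  exact (cover hB (sat_selfT hx) hι (gen_selfT x)).bound (h2.trans (mod hB).1.le)

theorem coatom (hB : Bound PH 501397585920) {G : Type} [Group G] {x : ℕ → G} (hx : Sat P x) {ι : M →* G}
    (hι : ∀ k, ι (x0 k) = subT x wsH k) (top : gen x = ⊤) (h : ι.range.index = 173067389) : IsCoatom ι.range :=
  (cover hB hx hι top).isCoatom h (by decide) (nb := 2) (by decide +kernel)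

theorem chL : band (Nat.ble 33030144 (prodOf (l1.map fun v => (v.b, v.o))))
      (chainC T 11 (sfix2C d T bs 197 1 72 a3 idw 0) (fun r => fb d.W (d.F r)) l1 []) = true :=
  by decide +kernel

theorem core (hB : Bound PH 501397585920) {G : Type} [Group G] {x : ℕ → G} (hx : Sat P x) {ι : M →* G}
    (hι : ∀ k, ι (x0 k) = subT x wsH k) (top : gen x = ⊤) (h : ι.range.index = 173067389) : ι.range.normalCore = ⊥ :=
  have := (mod hB).2.fin
  core_eq_bot (stab_of_chain2 (tm hB).1 (m3 hB) (valid hB hx hι) chL) ((cover hB hx hι top).exact h (i := 1) (by decide))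
    ((mod hB).1.le.trans (by decide))
    (base_of_level (hρ2 hB) (lt_of_invS (hρ2 hB) (mod hB).2.top N2.spec N2.out N2.inv) (by decide) N2.ch_l0 (by decide) (mod2 hB).base)

end Cfsg.Agent.Spor.J4C.B
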