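import Cfsg.Agent.Comp.BitMore3
import Cfsg.Prelude.Def_Spor_J4

set_option autoImplicit false
set_option Elab.async false
set_option maxRecDepth 100000

namespace Cfsg.Agent.Spor.J4C

open Cfsg.Agent.Comp.BN

/-- letters: 0 = x, 1 = y, 2 = y⁻¹, 3 = t -/

def P : Pres := ⟨[0, 2, 1, 3],
  [[1, 1, 1],
   [0, 1, 0, 1, 0, 1, 0, 1, 0, 1, 0, 1, 0, 1, 0, 1, 0, 1, 0, 1, 0, 1, 0, 1, 0, 1, 0, 1, 0, 1, 0, 1, 0, 1, 0, 1, 0, 1, 0, 1, 0, 1, 0, 1, 0, 1],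
   [0, 2, 0, 1, 0, 2, 0, 1, 0, 2, 0, 1, 0, 2, 0, 1, 0, 2, 0, 1, 0, 2, 0, 1, 0, 2, 0, 1, 0, 2, 0, 1, 0, 2, 0, 1, 0, 2, 0, 1, 0, 2, 0, 1, 0, 2, 0, 1],
   [0, 2, 0, 2, 0, 1, 0, 1, 0, 2, 0, 2, 0, 1, 0, 1, 0, 2, 0, 2, 0, 1, 0, 1, 0, 2, 0, 2, 0, 1, 0, 1, 0, 2, 0, 2, 0, 1, 0, 1],
   [0, 1, 0, 1, 0, 2, 0, 1, 0, 2, 0, 1, 0, 2, 0, 1, 0, 1, 0, 2, 0, 1, 0, 2, 0, 1, 0, 2, 0, 1, 0, 1, 0, 2, 0, 1, 0, 2, 0, 1, 0, 2, 0, 1, 0, 1, 0, 2, 0, 1, 0, 2, 0, 1, 0, 2],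
   [0, 1, 0, 1, 0, 2, 0, 1, 0, 1, 0, 2, 0, 1, 0, 1, 0, 2, 0, 1, 0, 2, 0, 2, 0, 1, 0, 2, 0, 2, 0, 1, 0, 2, 0, 2],
   [3, 2, 0, 2, 0, 2, 0, 1, 0, 1, 0, 2, 0, 2, 3, 1, 0, 1, 0, 2, 0, 2, 0, 1, 0, 1, 0, 1],
   [3, 0, 3, 0],
   [1, 0, 1, 0, 2, 0, 1, 0, 2, 3, 1, 0, 2, 0, 1, 0, 2, 0, 1, 0, 1, 0, 2, 0, 1, 0, 2, 3, 1, 0, 2, 0, 1, 0, 2, 0, 1, 0, 1, 0, 2, 0, 1, 0, 2, 3, 1, 0, 2, 0, 1, 0, 2, 0],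
   [1, 0, 1, 0, 1, 0, 1, 1, 0, 1, 0, 1, 0, 1, 1, 0, 1, 0, 1, 0, 1, 3, 2, 2, 0, 2, 0, 2, 0, 2, 0, 2, 0, 2, 0, 2, 2, 0, 2, 0, 2, 0, 3, 0, 1, 0, 1, 0, 1, 1, 0, 1, 0, 1, 0, 1, 0, 1, 0, 1, 0, 1, 1, 1, 0, 1, 0, 1, 0, 1, 1, 0, 1, 0, 1, 0, 1, 1, 0, 1, 0, 1, 0, 1, 3, 2, 2, 0, 2, 0, 2, 0, 2, 0, 2, 0, 2, 0, 2, 2, 0, 2, 0, 2, 0, 3, 0, 1, 0, 1, 0, 1, 1, 0, 1, 0, 1, 0, 1, 0, 1, 0, 1, 0, 1, 1]]⟩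

def enc : Cfsg.Spor.J4.Gen → ℕ
  | .x => 0
  | .y => 1
  | .t => 3

def lt : List (FreeGroup Cfsg.Spor.J4.Gen) := [Cfsg.Spor.J4.x, Cfsg.Spor.J4.y, Cfsg.Spor.J4.y⁻¹, Cfsg.Spor.J4.t]

noncomputable def x : ℕ → Cfsg.Spor.J4 := coxT Cfsg.Spor.J4.edges Cfsg.Spor.J4.extra lt

theorem hk : ∀ k < P.inv.length, ∃ q, k = enc q ∨ k = P.I (enc q) := by
  intro k hk
  change k < 4 at hk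
  interval_cases k
  · exact ⟨.x, Or.inl rfl⟩
  · exact ⟨.y, Or.inl rfl⟩
  · exact ⟨.y, Or.inr rfl⟩
  · exact ⟨.t, Or.inl rfl⟩

theorem link : Link P x ∧ ∀ w, PresentedGroup.mk _ w = ev x (encW P enc w) :=
  link_cox enc [] lt (fun q => by cases q <;> decide) (by decide) (fun q => by cases q <;> rfl)
    ⟨(map_mul _ _ _).symm.trans ((congrArg _ (sq _).symm).trans (mk_extra (List.mem_of_getElem? (i := 0) rfl))), mk_inv_mul _, mk_mul_inv _, (map_mul _ _ _).symm.trans ((congrArg _ (sq _).symm).trans (mk_extra (List.mem_of_getElem? (i := 7) rfl))), trivial⟩ hk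
    (c1 := [(30, 0), (0, 0), (3, 0), (6, 0), (9, 0), (12, 0), (15, 0), (30, 0), (18, 0), (21, 0), (24, 0), (27, 0)])
    (c2 := [(3, 0), (6, 0), (9, 0), (12, 0), (15, 0), (18, 0), (24, 0), (27, 0), (30, 0), (33, 0)])
    (by decide +kernel) (by decide +kernel)

end Cfsg.Agent.Spor.J4C
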