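import Cfsg.Agent.Spor.J4.Link
import Cfsg.Agent.Comp.BitMemo

set_option autoImplicit false
set_option Elab.async false
set_option maxRecDepth 100000

namespace Cfsg.Agent.Spor.J4C.A

open Cfsg.Agent.Comp.BN

/-- the subgroup `⟨x, y⟩` -/

def PH : Pres := ⟨[0, 2, 1],
  [[1, 1, 1],
   [0, 1, 0, 1, 0, 1, 0, 1, 0, 1, 0, 1, 0, 1, 0, 1, 0, 1, 0, 1, 0, 1, 0, 1, 0, 1, 0, 1, 0, 1, 0, 1, 0, 1, 0, 1, 0, 1, 0, 1, 0, 1, 0, 1, 0, 1],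
   [0, 2, 0, 1, 0, 2, 0, 1, 0, 2, 0, 1, 0, 2, 0, 1, 0, 2, 0, 1, 0, 2, 0, 1, 0, 2, 0, 1, 0, 2, 0, 1, 0, 2, 0, 1, 0, 2, 0, 1, 0, 2, 0, 1, 0, 2, 0, 1],
   [0, 2, 0, 2, 0, 1, 0, 1, 0, 2, 0, 2, 0, 1, 0, 1, 0, 2, 0, 2, 0, 1, 0, 1, 0, 2, 0, 2, 0, 1, 0, 1, 0, 2, 0, 2, 0, 1, 0, 1],
   [0, 1, 0, 1, 0, 2, 0, 1, 0, 2, 0, 1, 0, 2, 0, 1, 0, 1, 0, 2, 0, 1, 0, 2, 0, 1, 0, 2, 0, 1, 0, 1, 0, 2, 0, 1, 0, 2, 0, 1, 0, 2, 0, 1, 0, 1, 0, 2, 0, 1, 0, 2, 0, 1, 0, 2],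
   [0, 1, 0, 1, 0, 2, 0, 1, 0, 1, 0, 2, 0, 1, 0, 1, 0, 2, 0, 1, 0, 2, 0, 2, 0, 1, 0, 2, 0, 2, 0, 1, 0, 2, 0, 2]]⟩

def wsH : List (List ℕ) := [[0], [1], [2]]

theorem implH : Impl P Cfsg.Agent.Spor.J4C.A.PH [[0], [1], [2]] :=
  impl_of_subC (P := P) (c1 := [(30, 0), (30, 0), (30, 0)]) (c2 := [(0, 0), (3, 0), (6, 0), (9, 0), (12, 0), (15, 0)]) (by decide +kernel)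

namespace N1
noncomputable def m0_0 : ℕ := nat_lit 0xe90

noncomputable def m0_1 : ℕ := nat_lit 0x7013

noncomputable def m0_2 : ℕ := nat_lit 0xc3041

noncomputable def m0_3 : ℕ := nat_lit 0x90402

noncomputable def m0_4 : ℕ := nat_lit 0x201048

noncomputable def m0_5 : ℕ := nat_lit 0x104186

noncomputable def m0_6 : ℕ := nat_lit 0x3802c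

noncomputable def m0_7 : ℕ := nat_lit 0xe90

noncomputable def net0 : Net := (.cons 12 m0_0 (.cons 6 m0_1 (.cons 3 m0_2 (.cons 1 m0_3 (.cons 1 m0_4 (.cons 3 m0_5 (.cons 6 m0_6 (.cons 12 m0_7 .nil))))))))

theorem ok0 : Net.ok 24 net0 = true :=
  by decide +kernel

noncomputable def m1_0 : ℕ := nat_lit 0x213

noncomputable def m1_1 : ℕ := nat_lit 0x24004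

noncomputable def m1_2 : ℕ := nat_lit 0xc1005

noncomputable def m1_3 : ℕ := nat_lit 0x200001

noncomputable def m1_4 : ℕ := nat_lit 0x412002

noncomputable def m1_5 : ℕ := nat_lit 0x240009

noncomputable def m1_6 : ℕ := nat_lit 0x80004

noncomputable def m1_7 : ℕ := nat_lit 0x14000

noncomputable def m1_8 : ℕ := nat_lit 0x21c

noncomputable def net1 : Net := (.cons 12 m1_0 (.cons 6 m1_1 (.cons 3 m1_2 (.cons 1 m1_3 (.cons 1 m1_4 (.cons 1 m1_5 (.cons 3 m1_6 (.cons 6 m1_7 (.cons 12 m1_8 .nil)))))))))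

theorem ok1 : Net.ok 24 net1 = true :=
  by decide +kernel

noncomputable def net2 : Net := (.cons 12 m1_8 (.cons 6 m1_7 (.cons 3 m1_6 (.cons 1 m1_5 (.cons 1 m1_4 (.cons 1 m1_3 (.cons 3 m1_2 (.cons 6 m1_1 (.cons 12 m1_0 .nil)))))))))

theorem ok2 : Net.ok 24 net2 = true :=
  by decide +kernel

noncomputable def nets : List Net := [net0, net1, net2]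

noncomputable def act : Act := netAct' nets
noncomputable def π : ℕ → Equiv.Perm ℕ := netPerm nets

theorem spec : act.Spec 24 π :=
  spec_fast (netAct_spec (AllP.forall (p := fun t => Net.ok 24 t = true) ⟨ok0, ok1, ok2, trivial⟩))

theorem out : ∀ k, 3 ≤ k → π k = 1 :=
  netPerm_out nets

theorem sat_inv_0 : invC Cfsg.Agent.Spor.J4C.A.N1.act Cfsg.Agent.Spor.J4C.A.PH.I 24 5 Cfsg.Agent.Spor.J4C.A.PH.inv.length [0, 1, 2, 3, 4] = true :=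
  by decide +kernel

theorem sat_inv : ∀ k, Cfsg.Agent.Spor.J4C.A.N1.π (Cfsg.Agent.Spor.J4C.A.PH.I k) * Cfsg.Agent.Spor.J4C.A.N1.π k = 1 :=
  inv_of_checks Cfsg.Agent.Spor.J4C.A.N1.spec (K := 5) (by decide) Cfsg.Agent.Spor.J4C.A.N1.out [[0, 1, 2, 3, 4]] (by decide) ⟨sat_inv_0, trivial⟩

theorem sat_rel_0_0 : relsC Cfsg.Agent.Spor.J4C.A.N1.act Cfsg.Agent.Spor.J4C.A.PH.I 24 5 [[1, 1, 1], [0, 1, 0, 1, 0, 1, 0, 1, 0, 1, 0, 1, 0, 1, 0, 1, 0, 1, 0, 1, 0, 1, 0, 1, 0, 1, 0, 1, 0, 1, 0, 1, 0, 1, 0, 1, 0, 1, 0, 1, 0, 1, 0, 1, 0, 1], [0, 2, 0, 1, 0, 2, 0, 1, 0, 2, 0, 1, 0, 2, 0, 1, 0, 2, 0, 1, 0, 2, 0, 1, 0, 2, 0, 1, 0, 2, 0, 1, 0, 2, 0, 1, 0, 2, 0, 1, 0, 2, 0, 1, 0, 2, 0, 1],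 [0, 2, 0, 2, 0, 1, 0, 1, 0, 2, 0, 2, 0, 1, 0, 1, 0, 2, 0, 2, 0, 1, 0, 1, 0, 2, 0, 2, 0, 1, 0, 1, 0, 2, 0, 2, 0, 1, 0, 1], [0, 1, 0, 1, 0, 2, 0, 1, 0, 2, 0, 1, 0, 2, 0, 1, 0, 1, 0, 2, 0, 1, 0, 2, 0, 1, 0, 2, 0, 1, 0, 1, 0, 2, 0, 1, 0, 2, 0, 1, 0, 2, 0, 1, 0, 1, 0, 2, 0, 1, 0, 2, 0, 1, 0, 2], [0, 1, 0, 1, 0, 2, 0, 1, 0, 1, 0, 2, 0, 1, 0, 1, 0, 2, 0, 1, 0, 2, 0, 2, 0, 1, 0, 2, 0, 2, 0, 1, 0, 2, 0, 2]] [0, 1, 2, 3, 4] = true :=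
  by decide +kernel

theorem sat_rel_0 : ∀ r ∈ ([[1, 1, 1], [0, 1, 0, 1, 0, 1, 0, 1, 0, 1, 0, 1, 0, 1, 0, 1, 0, 1, 0, 1, 0, 1, 0, 1, 0, 1, 0, 1, 0, 1, 0, 1, 0, 1, 0, 1, 0, 1, 0, 1, 0, 1, 0, 1, 0, 1], [0, 2, 0, 1, 0, 2, 0, 1, 0, 2, 0, 1, 0, 2, 0, 1, 0, 2, 0, 1, 0, 2, 0, 1, 0, 2, 0, 1, 0, 2, 0, 1, 0, 2, 0, 1, 0, 2, 0, 1, 0, 2, 0, 1, 0, 2, 0, 1], [0, 2, 0, 2, 0, 1, 0, 1, 0, 2, 0, 2, 0, 1, 0, 1, 0, 2, 0, 2, 0, 1, 0, 1, 0, 2, 0, 2, 0, 1, 0, 1, 0, 2, 0, 2, 0, 1, 0, 1], [0, 1, 0, 1, 0, 2, 0, 1, 0, 2, 0, 1, 0, 2, 0, 1, 0, 1, 0, 2, 0, 1, 0, 2, 0, 1, 0, 2, 0, 1, 0, 1, 0, 2, 0, 1, 0, 2, 0, 1, 0, 2, 0, 1, 0, 1, 0, 2, 0, 1, 0, 2, 0, 1, 0, 2], [0, 1, 0, 1, 0, 2, 0, 1, 0, 1, 0, 2,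 0, 1, 0, 1, 0, 2, 0, 1, 0, 2, 0, 2, 0, 1, 0, 2, 0, 2, 0, 1, 0, 2, 0, 2]] : List (List ℕ)), ev Cfsg.Agent.Spor.J4C.A.N1.π r = 1 :=
  rels_of_checks Cfsg.Agent.Spor.J4C.A.N1.spec (K := 5) (by decide) sat_inv _ [[0, 1, 2, 3, 4]] (by decide) ⟨sat_rel_0_0, trivial⟩

theorem sat_rel : ∀ r ∈ ([[1, 1, 1], [0, 1, 0, 1, 0, 1, 0, 1, 0, 1, 0, 1, 0, 1, 0, 1, 0, 1, 0, 1, 0, 1, 0, 1, 0, 1, 0, 1, 0, 1, 0, 1, 0, 1, 0, 1, 0, 1, 0, 1, 0, 1, 0, 1, 0, 1], [0, 2, 0, 1, 0, 2, 0, 1, 0, 2, 0, 1, 0, 2, 0, 1, 0, 2, 0, 1, 0, 2, 0, 1, 0, 2, 0, 1, 0, 2, 0, 1, 0, 2, 0, 1, 0, 2, 0, 1, 0, 2, 0, 1, 0, 2, 0, 1], [0, 2, 0, 2, 0, 1, 0, 1, 0, 2, 0, 2, 0, 1, 0, 1, 0, 2, 0, 2, 0, 1, 0, 1, 0, 2, 0, 2, 0,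 1, 0, 1, 0, 2, 0, 2, 0, 1, 0, 1], [0, 1, 0, 1, 0, 2, 0, 1, 0, 2, 0, 1, 0, 2, 0, 1, 0, 1, 0, 2, 0, 1, 0, 2, 0, 1, 0, 2, 0, 1, 0, 1, 0, 2, 0, 1, 0, 2, 0, 1, 0, 2, 0, 1, 0, 1, 0, 2, 0, 1, 0, 2, 0, 1, 0, 2], [0, 1, 0, 1, 0, 2, 0, 1, 0, 1, 0, 2, 0, 1, 0, 1, 0, 2, 0, 1, 0, 2, 0, 2, 0, 1, 0, 2, 0, 2, 0, 1, 0, 2, 0, 2]] : List (List ℕ)), ev Cfsg.Agent.Spor.J4C.A.N1.π r = 1 :=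
  rels_join [[[1, 1, 1], [0, 1, 0, 1, 0, 1, 0, 1, 0, 1, 0, 1, 0, 1, 0, 1, 0, 1, 0, 1, 0, 1, 0, 1, 0, 1, 0, 1, 0, 1, 0, 1, 0, 1, 0, 1, 0, 1, 0, 1, 0, 1, 0, 1, 0, 1], [0, 2, 0, 1, 0, 2, 0, 1, 0, 2, 0, 1, 0, 2, 0, 1, 0, 2, 0, 1, 0, 2, 0, 1, 0, 2, 0, 1, 0, 2, 0, 1, 0, 2, 0, 1, 0, 2, 0, 1, 0, 2, 0, 1, 0, 2, 0, 1], [0, 2, 0, 2, 0, 1, 0, 1, 0, 2, 0, 2, 0, 1, 0, 1, 0, 2, 0, 2, 0, 1, 0, 1, 0, 2, 0, 2, 0, 1, 0, 1, 0, 2, 0, 2, 0, 1, 0, 1], [0, 1, 0, 1, 0, 2, 0, 1, 0, 2, 0, 1, 0, 2, 0, 1, 0, 1, 0, 2, 0, 1, 0, 2, 0, 1, 0, 2, 0, 1, 0, 1, 0, 2, 0, 1, 0, 2, 0, 1, 0, 2, 0, 1, 0, 1, 0, 2, 0, 1, 0, 2, 0, 1, 0, 2], [0, 1, 0, 1, 0, 2, 0, 1, 0, 1, 0, 2, 0, 1, 0, 1, 0, 2, 0, 1, 0, 2, 0,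 2, 0, 1, 0, 2, 0, 2, 0, 1, 0, 2, 0, 2]]] ⟨sat_rel_0, trivial⟩

theorem sat : Sat Cfsg.Agent.Spor.J4C.A.PH Cfsg.Agent.Spor.J4C.A.N1.π :=
  ⟨Cfsg.Agent.Spor.J4C.A.N1.out, sat_inv, sat_rel⟩

theorem ch_c0 : levelC Cfsg.Agent.Spor.J4C.A.N1.act 5 [] 0 [[0], [1], [2]] 6 24 = true :=
  by decide +kernel

theorem ch_l0 : LevelOK Cfsg.Agent.Spor.J4C.A.N1.π [] 0 24 :=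
  level_of_check Cfsg.Agent.Spor.J4C.A.N1.spec ch_c0

theorem ch_c1 : levelC Cfsg.Agent.Spor.J4C.A.N1.act 5 [0] 7 [[0, 2], [2, 0, 1, 0, 1, 0, 2, 0, 1]] 5 23 = true :=
  by decide +kernel

theorem ch_l1 : LevelOK Cfsg.Agent.Spor.J4C.A.N1.π [0] 7 23 :=
  level_of_check Cfsg.Agent.Spor.J4C.A.N1.spec ch_c1

theorem ch_c2 : levelC Cfsg.Agent.Spor.J4C.A.N1.act 5 [7, 0] 2 [[0, 2, 0, 2, 0, 2, 2, 0, 1, 0, 1, 0, 2, 0, 1, 0, 2], [0, 2, 2, 0, 1, 0, 2, 0, 2, 0, 1, 0, 2, 0, 2, 0, 2]] 5 22 = true :=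
  by decide +kernel

theorem ch_l2 : LevelOK Cfsg.Agent.Spor.J4C.A.N1.π [7, 0] 2 22 :=
  level_of_check Cfsg.Agent.Spor.J4C.A.N1.spec ch_c2

theorem ch_c3 : levelC Cfsg.Agent.Spor.J4C.A.N1.act 5 [2, 7, 0] 14 [[0, 2, 0, 2, 0, 2, 2, 0, 1, 0, 1, 0, 2, 0, 1, 0, 2, 0, 2, 0, 2, 0, 2, 2, 0, 1, 0, 1, 0, 2, 0, 1, 0, 2], [0, 2, 2, 0, 1, 0, 2, 0, 2, 0, 1, 0, 2, 0, 2, 2, 0, 1, 0, 2, 0, 2, 0, 1, 1, 0, 1, 0, 1, 0, 1, 0, 1, 0, 1, 0, 2, 0, 1, 0, 1, 0, 2, 0, 1, 0, 2, 0, 2, 2, 0, 1, 0, 1, 0, 2, 0, 1, 1, 0, 1, 0, 2, 0, 1, 0, 1, 0, 2, 0, 1, 1, 0]] 4 21 = true :=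
  by decide +kernel

theorem ch_l3 : LevelOK Cfsg.Agent.Spor.J4C.A.N1.π [2, 7, 0] 14 21 :=
  level_of_check Cfsg.Agent.Spor.J4C.A.N1.spec ch_c3

theorem ch_c4 : levelC Cfsg.Agent.Spor.J4C.A.N1.act 5 [14, 2, 7, 0] 1 [[0, 2, 0, 2, 0, 2, 2, 0, 1, 0, 1, 0, 2, 0, 1, 0, 2, 0, 2, 0, 2, 0, 2, 2, 0, 1, 0, 1, 0, 2, 0, 1, 0, 2, 0, 2, 2, 0, 1, 0, 2, 0, 2, 0, 1, 0, 2, 0, 2, 2, 0, 1, 0, 2, 0, 2, 0, 1, 1, 0, 1, 0, 2, 0, 1, 0, 2, 0, 2, 0, 1, 0, 2, 0, 2, 0, 2, 0, 2, 2, 0, 1, 0, 2, 0, 2, 0, 1, 0, 2, 0, 2, 0, 2, 0, 2, 0, 2, 0, 2, 2, 0, 1, 0, 1, 0, 2, 0, 1, 1, 0, 1, 0, 2, 0, 1, 0, 1, 0, 2, 0, 1, 0, 2, 0, 2, 2, 0, 1, 0, 1, 0, 2, 0, 1, 0, 2, 0, 2, 0, 2, 0, 2, 2, 0, 1, 0, 1, 0, 2, 0, 1,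 0, 2], [0, 2, 2, 0, 1, 0, 2, 0, 2, 0, 1, 0, 2, 0, 2, 2, 0, 1, 0, 2, 0, 2, 0, 1, 1, 0, 1, 0, 2, 0, 1, 0, 2, 0, 2, 0, 1, 0, 2, 0, 2, 0, 2, 0, 2, 0, 2, 0, 2, 2, 0, 1, 0, 1, 0, 2, 0, 1, 1, 0, 1, 0, 2, 0, 1, 0, 1, 0, 2, 0, 1, 0, 2, 0, 2, 2, 0, 1, 0, 1, 0, 2, 0, 1, 0, 2, 0, 2, 0, 2, 0, 2, 2, 0, 1, 0, 1, 0, 2, 0, 1, 0, 2, 0, 2, 2, 0, 1, 0, 2, 0, 2, 0, 1, 0, 2, 0, 2, 2, 0, 1, 0, 2, 0, 2, 0, 1, 1, 0, 1, 0, 1, 0, 1, 0, 1, 0, 1, 0, 2, 0, 1, 0, 1, 0, 2, 0, 1, 0, 2, 0, 2, 2, 0, 1, 0, 1, 0, 2, 0, 1, 1, 0, 1, 0, 2, 0, 1, 0, 1, 0, 2, 0, 1, 1, 0], [0, 2, 0, 2, 0, 2, 2, 0, 1, 0, 1, 0, 2, 0, 1, 0, 2, 0, 2, 0, 2, 0, 2, 2, 0, 1, 0, 1, 0, 2, 0, 1, 0, 2, 0, 2, 2, 0, 1, 0, 2, 0, 2, 0, 1,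 0, 2, 0, 2, 2, 0, 1, 0, 2, 0, 2, 0, 1, 1, 0, 1, 0, 1, 0, 1, 0, 1, 0, 1, 0, 2, 0, 1, 0, 1, 0, 2, 0, 1, 0, 2, 0, 2, 2, 0, 1, 0, 1, 0, 2, 0, 1, 1, 0, 1, 0, 2, 0, 1, 0, 1, 0, 2, 0, 1, 1, 0, 1, 0, 2, 0, 1, 0, 2, 0, 2, 0, 1, 1, 0, 1, 0, 1, 0, 1, 0, 2, 0, 1, 0, 2, 0, 2, 0, 1, 1, 0, 1, 0, 2, 0, 1, 0, 2, 0, 2, 0, 1, 0, 2, 0, 2, 2, 0, 1, 0, 2, 0, 2, 0, 1, 1, 0, 1, 0, 2, 0, 1, 0, 2, 0, 2, 0, 1, 0, 2, 0, 2, 0, 2, 0, 2, 0, 2, 0, 2, 2, 0, 1, 0, 1, 0, 2, 0, 1, 1, 0, 1, 0, 2, 0, 1, 0, 1, 0, 2, 0, 1, 1, 0]] 3 20 = true :=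
  by decide +kernel

theorem ch_l4 : LevelOK Cfsg.Agent.Spor.J4C.A.N1.π [14, 2, 7, 0] 1 20 :=
  level_of_check Cfsg.Agent.Spor.J4C.A.N1.spec ch_c4

theorem ch_c5 : levelC Cfsg.Agent.Spor.J4C.A.N1.act 5 [1, 14, 2, 7, 0] 19 [[0, 2, 2, 0, 1, 0, 2, 0, 2, 0, 1, 0, 2, 0, 2, 2, 0, 1, 0, 2, 0, 2, 0, 1, 1, 0, 1, 0, 2, 0, 1, 0, 2, 0, 2, 0, 1, 0, 2, 0, 2, 0, 2, 0, 2, 0, 2, 0, 2, 2, 0, 1, 0, 1, 0, 2, 0, 1, 1, 0, 1, 0, 2, 0, 1, 0, 1, 0, 2, 0, 1, 0, 2, 0, 2, 2, 0, 1, 0, 1, 0, 2, 0, 1, 0, 2, 0, 2, 0, 2, 0, 2, 2, 0, 1, 0, 1, 0, 2, 0, 1, 0, 2, 0, 2, 2, 0, 1, 0, 2, 0, 2, 0, 1, 0, 2, 0, 2, 2, 0, 1, 0, 2, 0, 2, 0, 1, 1, 0, 1, 0, 1, 0, 1, 0, 1, 0, 1, 0, 2, 0, 1, 0, 1, 0, 2, 0, 1, 0, 2,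 0, 2, 2, 0, 1, 0, 1, 0, 2, 0, 1, 1, 0, 1, 0, 2, 0, 1, 0, 1, 0, 2, 0, 1, 1, 0], [0, 2, 0, 2, 0, 2, 2, 0, 1, 0, 1, 0, 2, 0, 1, 0, 2, 0, 2, 0, 2, 0, 2, 2, 0, 1, 0, 1, 0, 2, 0, 1, 0, 2, 0, 2, 2, 0, 1, 0, 2, 0, 2, 0, 1, 0, 2, 0, 2, 2, 0, 1, 0, 2, 0, 2, 0, 1, 1, 0, 1, 0, 2, 0, 1, 0, 2, 0, 2, 0, 1, 0, 2, 0, 2, 0, 2, 0, 2, 2, 0, 1, 0, 2, 0, 2, 0, 1, 0, 2, 0, 2, 0, 2, 0, 2, 0, 2, 0, 2, 2, 0, 1, 0, 1, 0, 2, 0, 1, 1, 0, 1, 0, 2, 0, 1, 0, 1, 0, 2, 0, 1, 0, 2, 0, 2, 2, 0, 1, 0, 1, 0, 2, 0, 1, 0, 2, 0, 2, 0, 2, 0, 2, 2, 0, 1, 0, 1, 0, 2, 0, 1, 0, 2, 0, 2, 2, 0, 1, 0, 2, 0, 2, 0, 1, 0, 2, 0, 2, 2, 0, 1, 0, 2, 0, 2, 0, 1, 1, 0, 1, 0, 1, 0, 1, 0, 1, 0, 1, 0, 2, 0, 1, 0, 1, 0, 2, 0,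 1, 0, 2, 0, 2, 2, 0, 1, 0, 1, 0, 2, 0, 1, 1, 0, 1, 0, 2, 0, 1, 0, 1, 0, 2, 0, 1, 0, 2, 0, 2, 2, 0, 1, 0, 1, 0, 2, 0, 1, 0, 2, 0, 2, 0, 2, 0, 2, 2, 0, 1, 0, 1, 0, 2, 0, 1, 0, 2, 0, 2, 2, 0, 1, 0, 2, 0, 2, 0, 1, 0, 2, 0, 2, 2, 0, 1, 0, 2, 0, 2, 0, 1, 1, 0, 1, 0, 2, 0, 1, 0, 2, 0, 2, 0, 1, 0, 2, 0, 2, 0, 2, 0, 2, 2, 0, 1, 0, 2, 0, 2, 0, 1, 0, 2, 0, 2, 0, 2, 0, 2, 2, 0, 1, 0, 2, 0, 2, 0, 1, 0, 2, 0, 2, 0, 2, 0, 2, 0, 2, 0, 2, 2, 0, 1, 0, 1, 0, 2, 0, 1, 1, 0, 1, 0, 2, 0, 1, 0, 1, 0, 2, 0, 1, 0, 2, 0, 2, 2, 0, 1, 0, 1, 0, 2, 0, 1, 0, 2, 0, 2, 0, 2, 0, 2, 2, 0, 1, 0, 1, 0, 2, 0, 1, 0, 2], [1, 0, 2, 0, 1, 0, 2, 0, 2, 0, 1, 1, 0, 1, 0, 1, 0, 1, 0, 2, 0, 1, 0, 2, 0, 2, 0, 1,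 1, 0, 1, 0, 2, 0, 1, 0, 2, 0, 2, 0, 1, 0, 2, 0, 2, 2, 0, 1, 0, 2, 0, 2, 0, 1, 1, 0, 1, 0, 1, 0, 1, 0, 1, 0, 1, 0, 2, 0, 1, 0, 1, 0, 2, 0, 1, 1, 0, 1, 0, 1, 0, 1, 0, 2, 0, 1, 0, 1, 0, 2, 0, 1, 0, 2, 0, 2, 2, 0, 1, 0, 1, 0, 2, 0, 1, 1, 0, 1, 0, 2, 0, 1, 0, 1, 0, 2, 0, 1, 1, 0, 1, 0, 2, 0, 1, 0, 2, 0, 2, 0, 1, 1, 0, 1, 0, 1, 0, 1, 0, 2, 0, 1, 0, 2, 0, 2, 0, 1, 1, 0, 1, 0, 2, 0, 1, 0, 2, 0, 2, 0, 1, 0, 2, 0, 2, 2, 0, 1, 0, 2, 0, 2, 0, 1, 1, 0, 1, 0, 2, 0, 1, 0, 2, 0, 2, 0, 1, 0, 2, 0, 2, 0, 2, 0, 2, 0, 2, 0, 2, 2, 0, 1, 0, 1, 0, 2, 0, 1, 1, 0, 1, 0, 2, 0, 1, 0, 1, 0, 2, 0, 1, 0, 2, 0, 2, 2, 0, 1, 0, 1, 0, 2, 0, 1, 0, 2, 0, 2, 0, 2, 0, 2, 2, 0, 1, 0, 1, 0, 2, 0, 1, 0, 2,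 0, 2, 2, 0, 1, 0, 2, 0, 2, 0, 1, 0, 2, 0, 2, 2, 0, 1, 0, 2, 0, 2, 0, 1, 1, 0, 1, 0, 1, 0, 1, 0, 1, 0, 1, 0, 2, 0, 1, 0, 1, 0, 2, 0, 1, 0, 2, 0, 2, 2, 0, 1, 0, 1, 0, 2, 0, 1, 1, 0, 1, 0, 2, 0, 1, 0, 1, 0, 2, 0, 1, 0, 2, 0, 2, 2, 0, 1, 0, 1, 0, 2, 0, 1, 0, 2, 0, 2, 0, 2, 0, 2, 2, 0, 1, 0, 1, 0, 2, 0, 1, 0, 2, 0, 2, 2, 0, 1, 0, 2, 0, 2, 0, 1, 0, 2, 0, 2, 2, 0, 1, 0, 2, 0, 2, 0, 1, 1, 0, 1, 0, 2, 0, 1, 0, 2, 0, 2, 0, 1, 0, 2, 0, 2, 0, 2, 0, 2, 2, 0, 1, 0, 2, 0, 2, 0, 1, 0, 2, 0, 2, 0, 2, 0, 2, 0, 2, 0, 2, 2, 0, 1, 0, 1, 0, 2, 0, 1, 1, 0, 1, 0, 2, 0, 1, 0, 1, 0, 2, 0, 1, 0, 2, 0, 2, 2, 0, 1, 0, 1, 0, 2, 0, 1, 0, 2, 0, 2, 0, 2, 0, 2, 2, 0, 1, 0, 1, 0, 2, 0, 1, 0, 2]] 2 16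 = true :=
  by decide +kernel

theorem ch_l5 : LevelOK Cfsg.Agent.Spor.J4C.A.N1.π [1, 14, 2, 7, 0] 19 16 :=
  level_of_check Cfsg.Agent.Spor.J4C.A.N1.spec ch_c5

theorem ch_c6 : levelC Cfsg.Agent.Spor.J4C.A.N1.act 5 [19, 1, 14, 2, 7, 0] 9 [[0, 2, 0, 2, 0, 2, 2, 0, 1, 0, 1, 0, 2, 0, 1, 0, 2, 0, 2, 0, 2, 0, 2, 2, 0, 1, 0, 1, 0, 2, 0, 1, 0, 2, 0, 2, 2, 0, 1, 0, 2, 0, 2, 0, 1, 0, 2, 0, 2, 2, 0, 1, 0, 2, 0, 2, 0, 1, 1, 0, 1, 0, 2, 0, 1, 0, 2, 0, 2, 0, 1, 0, 2, 0, 2, 0, 2, 0, 2, 2, 0, 1, 0, 2, 0, 2, 0, 1, 0, 2, 0, 2, 0, 2, 0, 2, 0, 2, 0, 2, 2, 0, 1, 0, 1, 0, 2, 0, 1, 1, 0, 1, 0, 2, 0, 1, 0, 1, 0, 2, 0, 1, 0, 2, 0, 2, 2, 0, 1, 0, 1, 0, 2, 0, 1, 0, 2, 0, 2, 0, 2, 0, 2, 2,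 0, 1, 0, 1, 0, 2, 0, 1, 0, 2, 0, 2, 2, 0, 1, 0, 2, 0, 2, 0, 1, 0, 2, 0, 2, 2, 0, 1, 0, 2, 0, 2, 0, 1, 1, 0, 1, 0, 1, 0, 1, 0, 1, 0, 1, 0, 2, 0, 1, 0, 1, 0, 2, 0, 1, 0, 2, 0, 2, 2, 0, 1, 0, 1, 0, 2, 0, 1, 1, 0, 1, 0, 2, 0, 1, 0, 1, 0, 2, 0, 1, 0, 2, 0, 2, 2, 0, 1, 0, 1, 0, 2, 0, 1, 0, 2, 0, 2, 0, 2, 0, 2, 2, 0, 1, 0, 1, 0, 2, 0, 1, 0, 2, 0, 2, 2, 0, 1, 0, 2, 0, 2, 0, 1, 0, 2, 0, 2, 2, 0, 1, 0, 2, 0, 2, 0, 1, 1, 0, 1, 0, 2, 0, 1, 0, 2, 0, 2, 0, 1, 0, 2, 0, 2, 0, 2, 0, 2, 0, 2, 0, 2, 2, 0, 1, 0, 1, 0, 2, 0, 1, 1, 0, 1, 0, 2, 0, 1, 0, 1, 0, 2, 0, 1, 1, 0, 1, 0, 2, 0, 1, 0, 2, 0, 2, 0, 1, 1, 0, 1, 0, 1, 0, 1, 0, 2, 0, 1, 0, 2, 0, 2, 0, 1, 1, 0, 1, 0, 2, 0, 1, 0, 2, 0, 2,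 0, 1, 0, 2, 0, 2, 2, 0, 1, 0, 2, 0, 2, 0, 1, 1, 0, 1, 0, 2, 0, 1, 0, 2, 0, 2, 0, 1, 0, 2, 0, 2, 0, 2, 0, 2, 0, 2, 0, 2, 2, 0, 1, 0, 1, 0, 2, 0, 1, 1, 0, 1, 0, 2, 0, 1, 0, 1, 0, 2, 0, 1, 1, 0, 1, 0, 2, 0, 1, 0, 2, 0, 2, 0, 1, 1, 0, 1, 0, 1, 0, 1, 0, 2, 0, 1, 0, 2, 0, 2, 0, 1, 1, 0, 1, 0, 2, 0, 1, 0, 2, 0, 2, 0, 1, 0, 2, 0, 2, 2, 0, 1, 0, 2, 0, 2, 0, 1, 1, 0, 1, 0, 1, 0, 1, 0, 1, 0, 1, 0, 2, 0, 1, 0, 1, 0, 2, 0, 1, 0, 2, 0, 2, 2, 0, 1, 0, 1, 0, 2, 0, 1, 1, 0, 1, 0, 2, 0, 1, 0, 1, 0, 2, 0, 1, 0, 2, 0, 2, 2, 0, 1, 0, 1, 0, 2, 0, 1, 0, 2, 0, 2, 0, 2, 0, 2, 2, 0, 1, 0, 1, 0, 2, 0, 1, 0, 2, 0, 2, 2, 0, 1, 0, 2, 0, 2, 0, 1, 0, 2, 0, 2, 2, 0, 1, 0, 2, 0, 2, 0, 1, 1, 0, 1, 0,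 2, 0, 1, 0, 2, 0, 2, 0, 1, 0, 2, 0, 2, 0, 2, 0, 2, 2, 0, 1, 0, 2, 0, 2, 0, 1, 0, 2, 0, 2, 0, 2, 0, 2, 0, 2, 0, 2, 2, 0, 1, 0, 1, 0, 2, 0, 1, 1, 0, 1, 0, 2, 0, 1, 0, 1, 0, 2, 0, 1, 0, 2, 0, 2, 2, 0, 1, 0, 1, 0, 2, 0, 1, 0, 2, 0, 2, 0, 2, 0, 2, 2, 0, 1, 0, 1, 0, 2, 0, 1, 0, 2]] 2 3 = true :=
  by decide +kernel

theorem ch_l6 : LevelOK Cfsg.Agent.Spor.J4C.A.N1.π [19, 1, 14, 2, 7, 0] 9 3 :=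
  level_of_check Cfsg.Agent.Spor.J4C.A.N1.spec ch_c6

theorem ch : ChainOK Cfsg.Agent.Spor.J4C.A.N1.π [] [(0, 24), (7, 23), (2, 22), (14, 21), (1, 20), (19, 16), (9, 3)] :=
  ⟨ch_l0, ch_l1, ch_l2, ch_l3, ch_l4, ch_l5, ch_l6, trivial⟩

theorem inv : invS act PH.inv.length (ones 24) = true :=
  by decide +kernel

end N1

end Cfsg.Agent.Spor.J4C.A
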